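import Cfsg.Agent.H45.J4Rep
import Cfsg.Agent.H33.J4Pgl.Rels
import Cfsg.Agent.S1703

/-!
A subgroup of the presented fourth Janko group isomorphic to `PGL(2, 23)`: the elements are words in the
generators and the six relations are checked in the representation of dimension 112, which is faithful
because the group is simple.
-/

set_option autoImplicit false
set_option maxRecDepth 100000

namespace Cfsg.Agent.H32.J4Pgl

open Cfsg Cfsg.Spor Cfsg.Agent.H45.J4Mat Cfsg.Agent.H45.J4Rep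
open Cfsg.Agent.H45 (force force_eq)

theorem rho_injective : Function.Injective rho := by
  haveI : IsSimpleGroup J4 := Cfsg.Agent.S1703.simple
  rw [← MonoidHom.ker_eq_bot_iff]
  refine ((MonoidHom.normal_ker rho).eq_bot_or_eq_top).resolve_right fun h => ?_
  have hx : (PresentedGroup.of J4.Gen.x : J4) ∈ rho.ker := h ▸ Subgroup.mem_top _
  rw [MonoidHom.mem_ker, rho_of] at hx
  exact ux_ne_one hx

/-- the image of `g` is given by the packed number `n` -/
def Val (g : J4) (n : ℕ) : Prop :=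
  ((rho g : GL112) : Matrix (Fin 112) (Fin 112) (ZMod 2)) = toMat 112 n

theorem Val.one : Val 1 (oneN 112 112) := by
  rw [Val, map_one, Units.val_one, toMat_oneN]

theorem Val.mul {g k : J4} {a b : ℕ} (hg : Val g a) (hk : Val k b) :
    Val (g * k) (mulN 112 a b) := by
  rw [Val] at *
  rw [map_mul, Units.val_mul, hg, hk, toMat_mulN]

theorem Val.pow {g : J4} {a : ℕ} (hg : Val g a) (k : ℕ) : Val (g ^ k) (powN 112 a k) := by
  rw [Val] at *
  rw [map_pow, Units.val_pow_eq_pow_val, hg, toMat_powN]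

theorem Val.eq {g k : J4} {a b : ℕ} (hg : Val g a) (hk : Val k b) (h : a = b) : g = k :=
  rho_injective (Units.ext (hg.trans (h ▸ hk.symm)))

theorem Val.ne {g k : J4} {a b : ℕ} (hg : Val g a) (hk : Val k b) (i j : Fin 112)
    (h : a.testBit (112 * i + j) ≠ b.testBit (112 * i + j)) : g ≠ k := by
  rintro rfl
  have h2 : bz _ = bz _ := congrFun (congrFun (hg.symm.trans hk) i) j
  apply h
  revert h2
  cases a.testBit (112 * (i : ℕ) + j) <;> cases b.testBit (112 * (i : ℕ) + j) <;> decide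

/-- the letters -/
def letJ : ℕ → J4
  | 0 => PresentedGroup.of J4.Gen.x
  | 1 => PresentedGroup.of J4.Gen.y
  | 2 => (PresentedGroup.of J4.Gen.y)⁻¹
  | _ => PresentedGroup.of J4.Gen.t

/-- their images -/
def letN : ℕ → ℕ
  | 0 => xN
  | 1 => yN
  | 2 => yiN
  | _ => tN

theorem val_let : ∀ l, Val (letJ l) (letN l)
  | 0 => by simp only [Val, letJ, letN, rho_of]; rfl
  | 1 => by simp only [Val, letJ, letN, rho_of]; rfl
  | 2 => by simp only [Val, letJ, letN, map_inv, rho_of]; exact uy_inv_val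
  | _ + 3 => by simp only [Val, letJ, letN, rho_of]; rfl

/-- the element given by a word -/
def ev (l : List ℕ) : J4 := (l.map letJ).prod

/-- the image of the element given by a word -/
noncomputable def evN (l : List ℕ) : ℕ :=
  l.foldr (fun c n => mulN 112 (letN c) n) (oneN 112 112)

theorem val_ev : ∀ l, Val (ev l) (evN l)
  | [] => Val.one
  | c :: l => (val_let c).mul (val_ev l)

/-- an element interchanging the two cosets fixed by `PSL(2, 23)` -/
def dWord : List ℕ := [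
  1, 0, 2, 0, 2, 0, 2, 0, 1, 0, 2, 0, 2, 0, 2, 0, 2, 0, 2, 3, 1, 0, 1, 0, 1, 0, 1, 0, 2, 0,
  1, 0, 1, 0, 2, 0, 2, 0, 2, 0, 2, 3, 1, 0, 1, 0, 1, 0, 1, 0, 2, 0, 1, 0, 1, 0, 2, 0, 2, 0,
  2, 0, 2, 3, 1, 0, 1, 0, 2, 0, 1, 0, 2, 0, 2, 0, 2, 0, 2, 3, 1, 0, 1, 0, 1, 0, 1, 0, 2, 0,
  1, 0, 1, 0, 2, 0, 2, 0, 2, 0, 2, 3, 1, 0, 1, 0, 1, 0, 1, 0, 2, 0, 1, 0, 1, 0, 2, 0, 2, 0,
  2, 0, 2, 3, 1, 0, 1, 0, 1, 0, 1, 0, 2, 0, 2, 0, 2, 0, 1, 0, 1, 0, 2, 0, 2, 0, 2, 0, 2, 3,
  1, 0, 1, 0, 1, 0, 1, 0, 2, 0, 1, 0, 1, 0, 2, 0, 2, 0, 2, 0, 2, 3, 1, 0, 1, 0, 1, 0, 1, 0,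
  2, 0, 1, 0, 1, 0, 2, 0, 2, 0, 2, 0, 2, 3, 1, 0, 1, 0, 1, 0, 1, 0, 2, 0, 2, 0, 2, 0, 2, 0,
  1, 0, 1, 0, 2, 0, 2, 0, 2, 0, 2, 3, 1, 0, 1, 0, 1, 0, 1, 0, 2, 0, 1, 0, 1, 0, 2, 0, 2, 0,
  2, 0, 2, 3, 1, 0, 1, 0, 1, 0, 1, 0, 2, 0, 1, 0, 1, 0, 2, 0, 2, 0, 2, 0, 2, 3, 1, 0, 1, 0,
  1, 0, 1, 0, 2, 0, 1, 0, 2, 3, 1, 3, 2, 0, 1, 3, 2, 3, 2, 3, 1, 0, 3, 2, 3, 2, 3, 0, 1, 3,
  1, 3]

/-- the unipotent generator -/
def gu : J4 := ev [0, 1]

/-- the outer element -/
def gd : J4 := ev dWord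

/-- the torus generator -/
def gh : J4 := gd * gu * gd * gd * gu * gd * gu * gu * gd * gd * gd

/-- the Weyl element -/
def gw : J4 := gu * gu * gu * gu * gd * gu * gd * gu * gd * gd

/-- the images -/
noncomputable def uN : ℕ := evN [0, 1]

/-- the images -/
noncomputable def dN : ℕ := evN dWord

/-- the images -/
noncomputable def hN : ℕ :=
  force uN fun u => force dN fun d =>
    [u, d, d, u, d, u, u, d, d, d].foldl (mulN 112) d

/-- the images -/
noncomputable def wN : ℕ :=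
  force uN fun u => force dN fun d =>
    [u, u, u, d, u, d, u, d, d].foldl (mulN 112) u

theorem val_gu : Val gu uN := val_ev _

theorem val_gd : Val gd dN := val_ev _

theorem val_gh : Val gh hN := by
  simp only [hN, force_eq, List.foldl_cons, List.foldl_nil, gh]
  exact ((((((((((val_gd.mul val_gu).mul val_gd).mul val_gd).mul val_gu).mul val_gd).mul val_gu).mul
    val_gu).mul val_gd).mul val_gd).mul val_gd)

theorem val_gw : Val gw wN := by
  simp only [wN, force_eq, List.foldl_cons, List.foldl_nil, gw]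
  exact (((((((((val_gu.mul val_gu).mul val_gu).mul val_gu).mul val_gd).mul val_gu).mul val_gd).mul
    val_gu).mul val_gd).mul val_gd)

theorem rels : Cfsg.Agent.H33.J4Pgl.Rels gu gh gw where
  u23 := (val_gu.pow 23).eq Val.one (by decide +kernel)
  u_ne := val_gu.ne Val.one ⟨0, by norm_num⟩ ⟨1, by norm_num⟩ (by decide +kernel)
  h22 := (val_gh.pow 22).eq Val.one (by decide +kernel)
  hu := mul_inv_eq_iff_eq_mul.mpr
    ((val_gh.mul val_gu).eq ((val_gu.pow 5).mul val_gh) (by decide +kernel))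
  ww := (val_gw.mul val_gw).eq Val.one (by decide +kernel)
  wh := eq_inv_of_mul_eq_one_left
    ((((val_gw.mul val_gh).mul val_gw).mul val_gh).eq Val.one (by decide +kernel))
  wu := (((val_gw.mul val_gu).mul ((val_gw.mul val_gu))).mul (val_gw.mul val_gu)).eq Val.one
    (by decide +kernel)

/-- The presented fourth Janko group has a subgroup isomorphic to `PGL(2, 23)`. -/
theorem exists_pgl : ∃ K : Subgroup J4,
    Nonempty (↥K ≃* GL (Fin 2) (ZMod 23) ⧸ Subgroup.center (GL (Fin 2) (ZMod 23))) :=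
  ⟨(Cfsg.Agent.H33.J4Pgl.hom rels).range,
    ⟨((QuotientGroup.quotientMulEquivOfEq (Cfsg.Agent.H33.J4Pgl.ker_hom rels).symm).trans
      (QuotientGroup.quotientKerEquivRange _)).symm⟩⟩

/-- Every group isomorphic to the presented fourth Janko group has such a subgroup. -/
theorem exists_pgl_of_iso {G : Type*} [Group G] (e : IsoJ4 G) : ∃ K : Subgroup G,
    Nonempty (↥K ≃* GL (Fin 2) (ZMod 23) ⧸ Subgroup.center (GL (Fin 2) (ZMod 23))) := by
  obtain ⟨e⟩ := e
  obtain ⟨K, ⟨f⟩⟩ := exists_pgl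
  exact ⟨K.map e.symm.toMonoidHom, ⟨(e.symm.subgroupMap K).symm.trans f⟩⟩

end Cfsg.Agent.H32.J4Pgl
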